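import Mathlib
import Groth.Prelude.Def_BlowUp2

/-!
# The affine blow-up algebra `A[I/a]` as the colimit of `I^n` along multiplication by `a`
(helper35, S8938)
-/

set_option autoImplicit false
universe u

namespace Groth.Agent.H35.TorU

variable {A : Type u} [CommRing A] (I : Ideal A) (a : A)

/-- `1/a` -/
noncomputable def wInv : Localization.Away a :=
  IsLocalization.mk' (Localization.Away a) (1 : A) (⟨a, Submonoid.mem_powers a⟩ : Submonoid.powers a)

lemma algebraMap_mul_wInv : algebraMap A (Localization.Away a) a * wInv a = 1 := by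
  unfold wInv
  rw [mul_comm]
  have := IsLocalization.mk'_spec (Localization.Away a) (1 : A)
    (⟨a, Submonoid.mem_powers a⟩ : Submonoid.powers a)
  simpa using this

lemma algebraMap_pow_mul_wInv_pow (n : ℕ) :
    algebraMap A (Localization.Away a) (a ^ n) * wInv a ^ n = 1 := by
  rw [map_pow, ← mul_pow, algebraMap_mul_wInv, one_pow]

lemma mk'_eq_mul_wInv (x : A) :
    IsLocalization.mk' (Localization.Away a) x (⟨a, Submonoid.mem_powers a⟩ : Submonoid.powers a) =
      algebraMap A (Localization.Away a) x * wInv a :=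
  IsLocalization.mk'_eq_mul_mk'_one x _

lemma mem_affineAlgebra_of_mem_pow {n : ℕ} {x : A} (hx : x ∈ I ^ n) :
    algebraMap A (Localization.Away a) x * wInv a ^ n ∈ BlowUp.affineAlgebra A I a := by
  induction n generalizing x with
  | zero =>
    rw [pow_zero, mul_one]
    exact Subalgebra.algebraMap_mem _ x
  | succ n ih =>
    rw [pow_succ'] at hx
    refine Submodule.smul_induction_on (p := fun x =>
      algebraMap A (Localization.Away a) x * wInv a ^ (n + 1) ∈ BlowUp.affineAlgebra A I a) hx ?_ ?_
    · intro y hy z hz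
      have h1 : algebraMap A (Localization.Away a) y * wInv a ∈ BlowUp.affineAlgebra A I a := by
        apply Algebra.subset_adjoin
        exact ⟨y, hy, (mk'_eq_mul_wInv a y).symm⟩
      have h2 := Subalgebra.mul_mem _ h1 (ih hz)
      have e : algebraMap A (Localization.Away a) (y • z) * wInv a ^ (n + 1) =
          algebraMap A (Localization.Away a) y * wInv a *
            (algebraMap A (Localization.Away a) z * wInv a ^ n) := by
        rw [smul_eq_mul, map_mul, pow_succ]
        ring
      rw [e]
      exact h2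
    · intro y z hy hz
      rw [map_add, add_mul]
      exact Subalgebra.add_mem _ hy hz

/-- every element of `A[I/a]` is of the form `x/a^n` with `x ∈ I^n` -/
lemma exists_of_mem_affineAlgebra (ha : a ∈ I) {b : Localization.Away a}
    (hb : b ∈ BlowUp.affineAlgebra A I a) :
    ∃ (n : ℕ) (x : A), x ∈ I ^ n ∧ b = algebraMap A (Localization.Away a) x * wInv a ^ n := by
  refine Algebra.adjoin_induction (p := fun b _ => ∃ (n : ℕ) (x : A), x ∈ I ^ n ∧
    b = algebraMap A (Localization.Away a) x * wInv a ^ n) ?_ ?_ ?_ ?_ hb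
  · rintro _ ⟨y, hy, rfl⟩
    exact ⟨1, y, by rwa [pow_one], by rw [pow_one, mk'_eq_mul_wInv]⟩
  · intro r
    exact ⟨0, r, by rw [pow_zero, Ideal.one_eq_top]; exact trivial, by rw [pow_zero, mul_one]⟩
  · rintro _ _ _ _ ⟨n, x, hx, rfl⟩ ⟨m, x', hx', rfl⟩
    refine ⟨n + m, a ^ m * x + a ^ n * x', ?_, ?_⟩
    · apply Ideal.add_mem
      · rw [add_comm, pow_add]
        exact Ideal.mul_mem_mul (Ideal.pow_mem_pow ha m) hx
      · rw [pow_add]
        exact Ideal.mul_mem_mul (Ideal.pow_mem_pow ha n) hx'
    · have h1 := algebraMap_pow_mul_wInv_pow a m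
      have h2 := algebraMap_pow_mul_wInv_pow a n
      rw [map_add, map_mul, map_mul, pow_add]
      calc algebraMap A (Localization.Away a) x * wInv a ^ n +
            algebraMap A (Localization.Away a) x' * wInv a ^ m
          = algebraMap A (Localization.Away a) x * wInv a ^ n *
              (algebraMap A (Localization.Away a) (a ^ m) * wInv a ^ m) +
            algebraMap A (Localization.Away a) x' * wInv a ^ m *
              (algebraMap A (Localization.Away a) (a ^ n) * wInv a ^ n) := by
            rw [h1, h2, mul_one, mul_one]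
        _ = _ := by ring
  · rintro _ _ _ _ ⟨n, x, hx, rfl⟩ ⟨m, x', hx', rfl⟩
    refine ⟨n + m, x * x', ?_, ?_⟩
    · rw [pow_add]
      exact Ideal.mul_mem_mul hx hx'
    · rw [map_mul, pow_add]
      ring

lemma exists_pow_mul_eq_zero {n : ℕ} {x : A}
    (h : algebraMap A (Localization.Away a) x * wInv a ^ n = 0) : ∃ k : ℕ, a ^ k * x = 0 := by
  have h1 : algebraMap A (Localization.Away a) x = 0 := by
    have := congrArg (fun t => t * algebraMap A (Localization.Away a) (a ^ n)) h
    simp only [zero_mul] at this
    rw [mul_assoc, mul_comm (wInv a ^ n), algebraMap_pow_mul_wInv_pow, mul_one] at this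
    exact this
  obtain ⟨⟨_, k, rfl⟩, hk⟩ := (IsLocalization.map_eq_zero_iff (Submonoid.powers a)
    (Localization.Away a) x).1 h1
  exact ⟨k, hk⟩

section System

variable {I a} (ha : a ∈ I)

/-- multiplication by `a^(j-i)`, as a map `I^i → I^j` -/
noncomputable def powMap (i j : ULift.{u} ℕ) (h : i ≤ j) : ↥(I ^ i.down) →ₗ[A] ↥(I ^ j.down) :=
  LinearMap.codRestrict (I ^ j.down) ((a ^ (j.down - i.down)) • (I ^ i.down).subtype) (fun x => by
    have h1 : a ^ (j.down - i.down) * (x : A) ∈ I ^ (j.down - i.down) * I ^ i.down :=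
      Ideal.mul_mem_mul (Ideal.pow_mem_pow ha _) x.2
    rw [← pow_add] at h1
    have : j.down - i.down + i.down = j.down := Nat.sub_add_cancel h
    rw [this] at h1
    exact h1)

lemma powMap_coe (i j : ULift.{u} ℕ) (h : i ≤ j) (x : ↥(I ^ i.down)) :
    ((powMap ha i j h x : ↥(I ^ j.down)) : A) = a ^ (j.down - i.down) * (x : A) := rfl

lemma powMap_directed : DirectedSystem (fun j : ULift.{u} ℕ => ↥(I ^ j.down))
    (fun i j h => powMap ha i j h) where
  map_self i x := by
    apply Subtype.ext
    rw [powMap_coe, Nat.sub_self, pow_zero, one_mul]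
  map_map k j i hij hjk x := by
    apply Subtype.ext
    rw [powMap_coe, powMap_coe, powMap_coe, ← mul_assoc, ← pow_add]
    congr 2
    have h1 : i.down ≤ j.down := hij
    have h2 : j.down ≤ k.down := hjk
    omega

/-- `x ↦ x/a^j`, as a map `I^j → A[I/a]` -/
noncomputable def lamMap (j : ULift.{u} ℕ) : ↥(I ^ j.down) →ₗ[A] ↥(BlowUp.affineAlgebra A I a) where
  toFun x := ⟨algebraMap A (Localization.Away a) (x : A) * wInv a ^ j.down,
    mem_affineAlgebra_of_mem_pow I a x.2⟩
  map_add' x y := by
    apply Subtype.ext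
    show algebraMap A (Localization.Away a) ((x : A) + (y : A)) * wInv a ^ j.down = _
    rw [map_add, add_mul]
    rfl
  map_smul' r x := by
    apply Subtype.ext
    show algebraMap A (Localization.Away a) (r * (x : A)) * wInv a ^ j.down = _
    rw [map_mul, mul_assoc, ← Algebra.smul_def]
    rfl

lemma lamMap_coe (j : ULift.{u} ℕ) (x : ↥(I ^ j.down)) :
    ((lamMap (I := I) (a := a) j x : ↥(BlowUp.affineAlgebra A I a)) : Localization.Away a) =
      algebraMap A (Localization.Away a) (x : A) * wInv a ^ j.down := rfl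

lemma lamMap_powMap (i j : ULift.{u} ℕ) (h : i ≤ j) (x : ↥(I ^ i.down)) :
    lamMap (I := I) (a := a) j (powMap ha i j h x) = lamMap i x := by
  apply Subtype.ext
  rw [lamMap_coe, lamMap_coe, powMap_coe, map_mul]
  have h1 : i.down ≤ j.down := h
  have h2 : wInv a ^ j.down = wInv a ^ (j.down - i.down) * wInv a ^ i.down := by
    rw [← pow_add, Nat.sub_add_cancel h1]
  have h3 := algebraMap_pow_mul_wInv_pow a (j.down - i.down)
  calc algebraMap A (Localization.Away a) (a ^ (j.down - i.down)) *
        algebraMap A (Localization.Away a) (x : A) * wInv a ^ j.down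
      = (algebraMap A (Localization.Away a) (a ^ (j.down - i.down)) * wInv a ^ (j.down - i.down)) *
        (algebraMap A (Localization.Away a) (x : A) * wInv a ^ i.down) := by rw [h2]; ring
    _ = _ := by rw [h3, one_mul]

end System

end Groth.Agent.H35.TorU
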