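import Mathlib

/-!
# The ideal `J = I'·A[X] + (X)` of `A[X]`: powers, the decomposition of `A[X]/J^q`, and
Artin–Rees for `θ = X - f` (helper35, for S1739 / S0361)
-/

set_option autoImplicit false
universe u

open Polynomial

namespace Groth.Agent.H35.TorU

variable {A : Type u} [CommRing A] (I' : Ideal A) (f : A)

/-- `J = I' A[X] + (X)` -/
noncomputable def Jid : Ideal A[X] := I'.map C ⊔ Ideal.span {X}

/-- `θ = X - f` -/
noncomputable def θp : A[X] := X - C f

/-- `K_q`: polynomials whose `j`-th coefficient lies in `I'^(q-j)` -/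
def Kq (q : ℕ) : Ideal A[X] where
  carrier := {p | ∀ j, p.coeff j ∈ I' ^ (q - j)}
  add_mem' := by
    intro p r hp hr j
    rw [coeff_add]
    exact Ideal.add_mem _ (hp j) (hr j)
  zero_mem' := by
    intro j
    rw [coeff_zero]
    exact Ideal.zero_mem _
  smul_mem' := by
    intro r p hp j
    rw [smul_eq_mul, coeff_mul]
    apply Ideal.sum_mem
    rintro ⟨i, l⟩ hil
    have hl : l ≤ j := by
      have : i + l = j := by simpa [Finset.mem_antidiagonal] using hil
      omega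
    exact Ideal.mul_mem_left _ _ (Ideal.pow_le_pow_right (by omega) (hp l))

lemma mem_Kq {q : ℕ} {p : A[X]} : p ∈ Kq I' q ↔ ∀ j, p.coeff j ∈ I' ^ (q - j) := Iff.rfl

lemma Kq_mul {a b : ℕ} {p r : A[X]} (hp : p ∈ Kq I' a) (hr : r ∈ Kq I' b) :
    p * r ∈ Kq I' (a + b) := by
  intro n
  rw [coeff_mul]
  apply Ideal.sum_mem
  rintro ⟨i, l⟩ hil
  have h : i + l = n := by simpa [Finset.mem_antidiagonal] using hil
  have h1 : p.coeff i * r.coeff l ∈ I' ^ ((a - i) + (b - l)) := by
    rw [pow_add]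
    exact Ideal.mul_mem_mul (hp i) (hr l)
  exact Ideal.pow_le_pow_right (by omega) h1

lemma Jid_le_Kq_one : Jid I' ≤ Kq I' 1 := by
  unfold Jid
  rw [sup_le_iff]
  constructor
  · rw [Ideal.map_le_iff_le_comap]
    intro a ha j
    rw [coeff_C]
    split_ifs with h
    · subst h
      simpa using ha
    · exact Ideal.zero_mem _
  · rw [Ideal.span_le]
    rintro _ rfl j
    rw [coeff_X]
    split_ifs with h
    · subst h
      simp
    · exact Ideal.zero_mem _

lemma Jid_pow_le_Kq (q : ℕ) : Jid I' ^ q ≤ Kq I' q := by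
  induction q with
  | zero =>
    intro p _ j
    simp
  | succ q ih =>
    rw [pow_succ, Ideal.mul_le]
    intro r hr s hs
    exact Kq_mul I' (ih hr) (Jid_le_Kq_one I' hs)

lemma coeff_mem_of_mem_Jid_pow {q : ℕ} {p : A[X]} (hp : p ∈ Jid I' ^ q) (j : ℕ) :
    p.coeff j ∈ I' ^ (q - j) := Jid_pow_le_Kq I' q hp j

lemma X_mem_Jid : (X : A[X]) ∈ Jid I' :=
  Ideal.mem_sup_right (Ideal.subset_span rfl)

lemma C_mem_Jid_pow {m : ℕ} {a : A} (ha : a ∈ I' ^ m) : C a ∈ Jid I' ^ m := by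
  have h1 : C a ∈ (I' ^ m).map (C : A →+* A[X]) := Ideal.mem_map_of_mem _ ha
  rw [Ideal.map_pow] at h1
  exact Ideal.pow_right_mono le_sup_left m h1

lemma monomial_mem_Jid_pow {m j n : ℕ} (hn : n ≤ m + j) {a : A} (ha : a ∈ I' ^ m) :
    monomial j a ∈ Jid I' ^ n := by
  rw [← C_mul_X_pow_eq_monomial]
  have h1 : C a * X ^ j ∈ Jid I' ^ (m + j) := by
    rw [pow_add]
    exact Ideal.mul_mem_mul (C_mem_Jid_pow I' ha) (Ideal.pow_mem_pow (X_mem_Jid I') j)
  exact Ideal.pow_le_pow_right hn h1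

/-- the decomposition of a polynomial modulo `J^q` -/
lemma sub_sum_monomial_mem (q : ℕ) (p : A[X]) :
    p - ∑ j ∈ Finset.range q, monomial j (p.coeff j) ∈ Jid I' ^ q := by
  have h1 : X ^ q ∣ p - ∑ j ∈ Finset.range q, monomial j (p.coeff j) := by
    rw [X_pow_dvd_iff]
    intro d hd
    rw [coeff_sub, finsetSum_coeff]
    simp only [coeff_monomial]
    rw [Finset.sum_ite_eq' (Finset.range q) d, if_pos (Finset.mem_range.2 hd), sub_self]
  obtain ⟨r, hr⟩ := h1
  rw [hr]
  exact Ideal.mul_mem_right _ _ (Ideal.pow_mem_pow (X_mem_Jid I') q)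

section Eval

/-- the image of `J` under `X ↦ f` -/
lemma map_eval_Jid : (Jid I').map (evalRingHom f) = I' ⊔ Ideal.span {f} := by
  unfold Jid
  rw [Ideal.map_sup, Ideal.map_map, Ideal.map_span, Set.image_singleton]
  have h1 : (evalRingHom f).comp (C : A →+* A[X]) = RingHom.id A := by
    ext a
    simp
  rw [h1, Ideal.map_id]
  simp

lemma eval_mem_of_mem_Jid_pow {q : ℕ} {p : A[X]} (hp : p ∈ Jid I' ^ q) :
    p.eval f ∈ (I' ⊔ Ideal.span {f}) ^ q := by
  have h1 : evalRingHom f p ∈ (Jid I' ^ q).map (evalRingHom f) := Ideal.mem_map_of_mem _ hp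
  rw [Ideal.map_pow, map_eval_Jid] at h1
  exact h1

lemma eval_θp : (θp f).eval f = 0 := by
  unfold θp
  simp

/-- a polynomial whose value at `f` lies in `I^q` lies in `J^q + (θ)` -/
lemma mem_sup_of_eval_mem {q : ℕ} {p : A[X]} (hp : p.eval f ∈ (I' ⊔ Ideal.span {f}) ^ q) :
    p ∈ Jid I' ^ q ⊔ Ideal.span {θp f} := by
  have hsurj : Function.Surjective (evalRingHom f) := fun a => ⟨C a, by simp⟩
  have h1 : evalRingHom f p ∈ (Jid I' ^ q).map (evalRingHom f) := by
    rw [Ideal.map_pow, map_eval_Jid]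
    exact hp
  obtain ⟨p', hp', he⟩ := (Ideal.mem_map_iff_of_surjective _ hsurj).1 h1
  have h2 : p - p' ∈ RingHom.ker (evalRingHom f) := by
    rw [RingHom.mem_ker, map_sub, he, sub_self]
  rw [ker_evalRingHom] at h2
  have h3 : p = p' + (p - p') := by ring
  rw [h3]
  exact Ideal.add_mem _ (Ideal.mem_sup_left hp') (Ideal.mem_sup_right h2)

/-- every element of `I^c` is the value at `f` of an element of `J^c` -/
lemma exists_mem_Jid_pow_eval {c : ℕ} {a : A} (ha : a ∈ (I' ⊔ Ideal.span {f}) ^ c) :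
    ∃ b ∈ Jid I' ^ c, b - C a ∈ Ideal.span {θp f} := by
  have hsurj : Function.Surjective (evalRingHom f) := fun a => ⟨C a, by simp⟩
  have h1 : a ∈ (Jid I' ^ c).map (evalRingHom f) := by
    rw [Ideal.map_pow, map_eval_Jid]
    exact ha
  obtain ⟨b, hb, he⟩ := (Ideal.mem_map_iff_of_surjective _ hsurj).1 h1
  refine ⟨b, hb, ?_⟩
  have h2 : b - C a ∈ RingHom.ker (evalRingHom f) := by
    rw [RingHom.mem_ker, map_sub, he]
    simp
  rw [ker_evalRingHom] at h2
  exact h2

end Eval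

section ArtinRees

variable [IsNoetherianRing A]

/-- Artin–Rees for the non-zero-divisor `θ` -/
lemma exists_AR : ∃ k : ℕ, ∀ (q : ℕ) (u : A[X]), θp f * u ∈ Jid I' ^ q → u ∈ Jid I' ^ (q - k) := by
  obtain ⟨k, hk⟩ := Ideal.exists_pow_inf_eq_pow_smul (Jid I')
    (Ideal.span {θp f} : Submodule A[X] A[X])
  refine ⟨k, fun q u hu => ?_⟩
  by_cases hq : k ≤ q
  · have h1 : θp f * u ∈ (Jid I' ^ q • ⊤ ⊓ (Ideal.span {θp f} : Submodule A[X] A[X]) :
        Submodule A[X] A[X]) := by
      refine ⟨?_, ?_⟩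
      · rw [smul_eq_mul, Ideal.mul_top]
        exact hu
      · exact Ideal.mul_mem_right _ _ (Ideal.subset_span rfl)
    rw [hk q hq] at h1
    have h2 : (Jid I' ^ (q - k) • (Jid I' ^ k • ⊤ ⊓ (Ideal.span {θp f} : Submodule A[X] A[X])) :
        Submodule A[X] A[X]) ≤
        (Jid I' ^ (q - k) • (Ideal.span {θp f} : Submodule A[X] A[X]) : Submodule A[X] A[X]) :=
      Submodule.smul_mono le_rfl inf_le_right
    have h3 : θp f * u ∈ Jid I' ^ (q - k) * Ideal.span {θp f} := h2 h1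
    rw [Ideal.mem_mul_span_singleton] at h3
    obtain ⟨z, hz, hzu⟩ := h3
    have hreg : IsLeftRegular (θp f) := (monic_X_sub_C f).isRegular.left
    have : z = u := by
      apply hreg
      show θp f * z = θp f * u
      rw [← hzu, mul_comm]
    rw [← this]
    exact hz
  · have : q - k = 0 := by omega
    rw [this, pow_zero, Ideal.one_eq_top]
    exact trivial

end ArtinRees

end Groth.Agent.H35.TorU
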