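import Mathlib
import Groth.Agent.H35.TorU.PolyJ

/-!
# `A`-linear maps between quotients of an `A`-algebra, and the pieces of `A[X]/J^q`
(helper35, for S1739 / S0361)
-/

set_option autoImplicit false
universe u

open Polynomial

namespace Groth.Agent.H35.TorU

section Generic

variable {A : Type u} [CommRing A] {B : Type u} [CommRing B] [Algebra A B]

/-- multiplication by `b`, as an `A`-linear map `B/𝔠 → B/𝔠'` -/
noncomputable def qm (𝔠 𝔠' : Ideal B) (b : B) (h : ∀ u ∈ 𝔠, b * u ∈ 𝔠') :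
    (B ⧸ 𝔠) →ₗ[A] (B ⧸ 𝔠') :=
  (Submodule.mapQ 𝔠 𝔠' (LinearMap.mulLeft B b) (fun u hu => h u hu)).restrictScalars A

lemma qm_mk (𝔠 𝔠' : Ideal B) (b : B) (h : ∀ u ∈ 𝔠, b * u ∈ 𝔠') (u : B) :
    qm (A := A) 𝔠 𝔠' b h (Ideal.Quotient.mk 𝔠 u) = Ideal.Quotient.mk 𝔠' (b * u) := rfl

lemma qext {N : Type*} [AddCommGroup N] [Module A N] {𝔠 : Ideal B} {φ ψ : (B ⧸ 𝔠) →ₗ[A] N}
    (h : ∀ u : B, φ (Ideal.Quotient.mk 𝔠 u) = ψ (Ideal.Quotient.mk 𝔠 u)) : φ = ψ :=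
  LinearMap.ext fun x => by
    obtain ⟨u, rfl⟩ := Ideal.Quotient.mk_surjective x
    exact h u

lemma qm_comp (𝔠 𝔠' 𝔠'' : Ideal B) (b b' : B) (h : ∀ u ∈ 𝔠, b * u ∈ 𝔠')
    (h' : ∀ u ∈ 𝔠', b' * u ∈ 𝔠'') (h'' : ∀ u ∈ 𝔠, b' * b * u ∈ 𝔠'') :
    (qm 𝔠' 𝔠'' b' h').comp (qm (A := A) 𝔠 𝔠' b h) = qm 𝔠 𝔠'' (b' * b) h'' :=
  qext fun u => by
    rw [LinearMap.comp_apply, qm_mk, qm_mk, qm_mk, mul_assoc]

lemma qm_congr {𝔠 𝔠' : Ideal B} {b b' : B} (h : ∀ u ∈ 𝔠, b * u ∈ 𝔠') (h' : ∀ u ∈ 𝔠, b' * u ∈ 𝔠')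
    (hb : b - b' ∈ 𝔠') : qm (A := A) 𝔠 𝔠' b h = qm 𝔠 𝔠' b' h' :=
  qext fun u => by
    rw [qm_mk, qm_mk, Ideal.Quotient.eq, ← sub_mul]
    exact 𝔠'.mul_mem_right _ hb

lemma qm_congr' {𝔠 𝔠' : Ideal B} {b b' : B} (h : ∀ u ∈ 𝔠, b * u ∈ 𝔠') (hb : b = b') :
    qm (A := A) 𝔠 𝔠' b h = qm 𝔠 𝔠' b' (hb ▸ h) := by
  subst hb
  rfl

lemma qm_add {𝔠 𝔠' : Ideal B} {b b' : B} (h : ∀ u ∈ 𝔠, b * u ∈ 𝔠') (h' : ∀ u ∈ 𝔠, b' * u ∈ 𝔠')
    (h'' : ∀ u ∈ 𝔠, (b + b') * u ∈ 𝔠') :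
    qm (A := A) 𝔠 𝔠' (b + b') h'' = qm 𝔠 𝔠' b h + qm 𝔠 𝔠' b' h' :=
  qext fun u => by
    rw [LinearMap.add_apply, qm_mk, qm_mk, qm_mk, add_mul, map_add]

lemma qm_algebraMap (𝔠 : Ideal B) (a : A) (h : ∀ u ∈ 𝔠, algebraMap A B a * u ∈ 𝔠) :
    qm (A := A) 𝔠 𝔠 (algebraMap A B a) h = a • LinearMap.id :=
  qext fun u => by
    rw [qm_mk, LinearMap.smul_apply, LinearMap.id_apply, ← Algebra.smul_def]
    rfl

lemma qm_one (𝔠 : Ideal B) (h : ∀ u ∈ 𝔠, 1 * u ∈ 𝔠) :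
    qm (A := A) 𝔠 𝔠 1 h = LinearMap.id :=
  qext fun u => by
    rw [qm_mk, LinearMap.id_apply, one_mul]

/-- descending an `A`-linear map to a quotient of `B` by an ideal -/
noncomputable def liftA {N : Type*} [AddCommGroup N] [Module A N] (𝔠 : Ideal B) (g : B →ₗ[A] N)
    (h : ∀ u ∈ 𝔠, g u = 0) : (B ⧸ 𝔠) →ₗ[A] N :=
  (Submodule.liftQ (𝔠.restrictScalars A) g (fun u hu => h u hu)).comp
    (Submodule.Quotient.restrictScalarsEquiv A 𝔠).symm.toLinearMap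

lemma liftA_mk {N : Type*} [AddCommGroup N] [Module A N] (𝔠 : Ideal B) (g : B →ₗ[A] N)
    (h : ∀ u ∈ 𝔠, g u = 0) (u : B) : liftA 𝔠 g h (Ideal.Quotient.mk 𝔠 u) = g u := rfl

end Generic

section Tr

variable {A : Type u} [CommRing A] (I : Ideal A)

/-- the transition maps `A/I^m → A/I^m'` -/
noncomputable def trI (m m' : ℕ) (h : m' ≤ m) : (A ⧸ I ^ m) →ₗ[A] (A ⧸ I ^ m') :=
  Submodule.mapQ (I ^ m) (I ^ m') LinearMap.id (Ideal.pow_le_pow_right h)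

lemma trI_mk (m m' : ℕ) (h : m' ≤ m) (a : A) :
    trI I m m' h (Ideal.Quotient.mk (I ^ m) a) = Ideal.Quotient.mk (I ^ m') a := rfl

lemma aext {N : Type*} [AddCommGroup N] [Module A N] {𝔞 : Ideal A} {φ ψ : (A ⧸ 𝔞) →ₗ[A] N}
    (h : ∀ a : A, φ (Ideal.Quotient.mk 𝔞 a) = ψ (Ideal.Quotient.mk 𝔞 a)) : φ = ψ :=
  LinearMap.ext fun x => by
    obtain ⟨u, rfl⟩ := Ideal.Quotient.mk_surjective x
    exact h u

lemma trI_comp (m m' m'' : ℕ) (h : m' ≤ m) (h' : m'' ≤ m') :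
    (trI I m' m'' h').comp (trI I m m' h) = trI I m m'' (h'.trans h) :=
  aext fun a => rfl

end Tr

section Pieces

variable {A : Type u} [CommRing A] (I' : Ideal A)

/-- `ā ↦ [a X^j]` -/
noncomputable def ιJ (m j q : ℕ) (h : q ≤ m + j) : (A ⧸ I' ^ m) →ₗ[A] (A[X] ⧸ Jid I' ^ q) :=
  Submodule.liftQ (I' ^ m) (((Jid I' ^ q).mkQ.restrictScalars A).comp (monomial j)) (by
    intro a ha
    rw [LinearMap.mem_ker]
    exact (Submodule.Quotient.mk_eq_zero _).2 (monomial_mem_Jid_pow I' h ha))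

lemma ιJ_mk (m j q : ℕ) (h : q ≤ m + j) (a : A) :
    ιJ I' m j q h (Ideal.Quotient.mk (I' ^ m) a) = Ideal.Quotient.mk (Jid I' ^ q) (monomial j a) :=
  rfl

/-- `[p] ↦ [coeff_j p]` -/
noncomputable def πJ (q j m : ℕ) (h : m ≤ q - j) : (A[X] ⧸ Jid I' ^ q) →ₗ[A] (A ⧸ I' ^ m) :=
  liftA (Jid I' ^ q) ((I' ^ m).mkQ.comp (lcoeff A j)) (by
    intro u hu
    exact (Submodule.Quotient.mk_eq_zero _).2
      (Ideal.pow_le_pow_right h (coeff_mem_of_mem_Jid_pow I' hu j)))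

lemma πJ_mk (q j m : ℕ) (h : m ≤ q - j) (p : A[X]) :
    πJ I' q j m h (Ideal.Quotient.mk (Jid I' ^ q) p) = Ideal.Quotient.mk (I' ^ m) (p.coeff j) :=
  rfl

/-- the decomposition `A[X]/J^q = ⊕_{j<q} A/I'^(q-j)` -/
lemma sum_ιJ_πJ (q : ℕ) :
    ∑ j ∈ Finset.range q, (ιJ I' (q - j) j q (by omega)).comp (πJ I' q j (q - j) le_rfl) =
      LinearMap.id :=
  qext fun p => by
    rw [LinearMap.sum_apply, LinearMap.id_apply]
    simp only [LinearMap.comp_apply, πJ_mk, ιJ_mk]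
    rw [← map_sum, eq_comm, Ideal.Quotient.eq]
    exact sub_sum_monomial_mem I' q p

/-- `X^e ·` (and the transitions) on the pieces -/
lemma qm_X_pow_comp_ιJ (m m' j e q q' : ℕ) (hq : q ≤ m + j) (hm : m' ≤ m)
    (hq' : q' ≤ m' + (j + e)) (hX : ∀ u ∈ Jid I' ^ q, X ^ e * u ∈ Jid I' ^ q') :
    (qm (Jid I' ^ q) (Jid I' ^ q') (X ^ e) hX).comp (ιJ I' m j q hq) =
      (ιJ I' m' (j + e) q' hq').comp (trI I' m m' hm) :=
  aext fun a => by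
    rw [LinearMap.comp_apply, LinearMap.comp_apply, ιJ_mk, trI_mk, ιJ_mk, qm_mk,
      X_pow_mul_monomial]

/-- scalars commute with the pieces -/
lemma smul_ιJ_comp_πJ (a : A) (m j q : ℕ) (h : q ≤ m + j) (h' : m ≤ q - j) :
    a • (ιJ I' m j q h).comp (πJ I' q j m h') =
      ((ιJ I' m j q h).comp (a • LinearMap.id)).comp (πJ I' q j m h') :=
  LinearMap.ext fun x => by
    simp only [LinearMap.smul_apply, LinearMap.comp_apply, LinearMap.id_apply, map_smul]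

end Pieces

end Groth.Agent.H35.TorU
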