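import Mathlib
import Groth.Agent.H18.TorBalance
import Groth.Agent.H72.LDLinear

/-!
# The functors `T_n(N) = H_n(P ⊗ N)` for a projective resolution `P → M`, with their long exact
sequence and the two "chase" lemmas (helper35, for S1739 / S0361)
-/

set_option autoImplicit false
universe u

open CategoryTheory CategoryTheory.Limits MonoidalCategory

namespace Groth.Agent.H35.TorU

open Groth.Agent.H18

variable {A : Type u} [CommRing A] {M : ModuleCat.{u} A} (P : ProjectiveResolution M)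

/-- `N ↦ P ⊗ N` -/
noncomputable def tensFun : ModuleCat.{u} A ⥤ ChainComplex (ModuleCat.{u} A) ℕ where
  obj N := tensCx P N
  map f := tensCxMap P f
  map_id N := by
    apply HomologicalComplex.hom_ext
    intro i
    show P.complex.X i ◁ (𝟙 N) = 𝟙 (P.complex.X i ⊗ N)
    exact MonoidalCategory.whiskerLeft_id _ _
  map_comp f g := by
    apply HomologicalComplex.hom_ext
    intro i
    show P.complex.X i ◁ (f ≫ g) = P.complex.X i ◁ f ≫ P.complex.X i ◁ g
    exact MonoidalCategory.whiskerLeft_comp _ _ _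

/-- `T_n` -/
noncomputable def TF (n : ℕ) : ModuleCat.{u} A ⥤ ModuleCat.{u} A :=
  tensFun P ⋙ HomologicalComplex.homologyFunctor _ _ n

lemma TF_map {N N' : ModuleCat.{u} A} (n : ℕ) (f : N ⟶ N') :
    (TF P n).map f = HomologicalComplex.homologyMap (tensCxMap P f) n := rfl

lemma tensCxMap_zero (N N' : ModuleCat.{u} A) : tensCxMap P (0 : N ⟶ N') = 0 := by
  apply HomologicalComplex.hom_ext
  intro i
  show P.complex.X i ◁ (0 : N ⟶ N') = 0
  exact MonoidalPreadditive.whiskerLeft_zero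

lemma tensCxMap_add {N N' : ModuleCat.{u} A} (f g : N ⟶ N') :
    tensCxMap P (f + g) = tensCxMap P f + tensCxMap P g := by
  apply HomologicalComplex.hom_ext
  intro i
  show P.complex.X i ◁ (f + g) = P.complex.X i ◁ f + P.complex.X i ◁ g
  exact MonoidalPreadditive.whiskerLeft_add _ _

lemma tensCxMap_smul {N N' : ModuleCat.{u} A} (a : A) (f : N ⟶ N') :
    tensCxMap P (a • f) = a • tensCxMap P f := by
  apply HomologicalComplex.hom_ext
  intro i
  show P.complex.X i ◁ (a • f) = a • (P.complex.X i ◁ f)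
  exact MonoidalLinear.whiskerLeft_smul _ _ _

lemma TF_map_zero (n : ℕ) (N N' : ModuleCat.{u} A) : (TF P n).map (0 : N ⟶ N') = 0 :=
  (congrArg (fun t => HomologicalComplex.homologyMap t n) (tensCxMap_zero P N N')).trans
    (HomologicalComplex.homologyMap_zero _ _ n)

lemma TF_map_add (n : ℕ) {N N' : ModuleCat.{u} A} (f g : N ⟶ N') :
    (TF P n).map (f + g) = (TF P n).map f + (TF P n).map g :=
  (congrArg (fun t => HomologicalComplex.homologyMap t n) (tensCxMap_add P f g)).trans
    (HomologicalComplex.homologyMap_add _ _ n)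

lemma TF_map_smul (n : ℕ) {N N' : ModuleCat.{u} A} (a : A) (f : N ⟶ N') :
    (TF P n).map (a • f) = a • (TF P n).map f :=
  (congrArg (fun t => HomologicalComplex.homologyMap t n) (tensCxMap_smul P a f)).trans
    (Groth.Agent.H72.LDLinear.homologyMap_smul a _ n)

lemma TF_map_sum (n : ℕ) {N N' : ModuleCat.{u} A} {ι : Type*} (s : Finset ι) (f : ι → (N ⟶ N')) :
    (TF P n).map (∑ j ∈ s, f j) = ∑ j ∈ s, (TF P n).map (f j) := by
  classical
  induction s using Finset.induction_on with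
  | empty => simp only [Finset.sum_empty, TF_map_zero]
  | insert j s hj ih => rw [Finset.sum_insert hj, Finset.sum_insert hj, TF_map_add, ih]

/-- `T_{n+1}` vanishes on flat modules -/
lemma isZero_TF_succ_of_flat (n : ℕ) (G : ModuleCat.{u} A) [Module.Flat A G] :
    IsZero ((TF P (n + 1)).obj G) :=
  isZero_homology_tensCx_succ_of_flat P G n

/-- `T_n` vanishes on zero modules -/
lemma isZero_TF_of_isZero (n : ℕ) (G : ModuleCat.{u} A) (hG : IsZero G) :
    IsZero ((TF P n).obj G) := by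
  rw [IsZero.iff_id_eq_zero, ← CategoryTheory.Functor.map_id, hG.eq_of_src (𝟙 G) 0, TF_map_zero]

section Chase

variable {S S' S'' : ShortComplex (ModuleCat.{u} A)}

/-- the middle chase -/
lemma chase_mid (hS' : S'.ShortExact) (n : ℕ) (ε' : S ⟶ S') (ε : S' ⟶ S'')
    (h3 : (TF P n).map ε'.τ₃ = 0) (h1 : (TF P n).map ε.τ₁ = 0) :
    (TF P n).map (ε' ≫ ε).τ₂ = 0 := by
  have hΦ' := tensSC_shortExact P hS'
  have hex := hΦ'.homology_exact₂ n
  have e1 : (TF P n).map ε'.τ₂ ≫ (TF P n).map S'.g = 0 := by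
    rw [← Functor.map_comp, ε'.comm₂₃, Functor.map_comp, h3, comp_zero]
  have hex' : (ShortComplex.mk ((TF P n).map S'.f) ((TF P n).map S'.g)
      (by rw [← Functor.map_comp, S'.zero, TF_map_zero])).Exact := hex
  rw [ShortComplex.comp_τ₂, Functor.map_comp]
  apply ModuleCat.hom_ext
  apply LinearMap.ext
  intro x
  have hx : ((TF P n).map S'.g).hom (((TF P n).map ε'.τ₂).hom x) = 0 :=
    congrArg (fun t => t.hom x) e1
  obtain ⟨y, hy⟩ := (ShortComplex.ShortExact.moduleCat_exact_iff_function_exact _).1 hex' _ |>.1 hx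
  have e2 : (TF P n).map S'.f ≫ (TF P n).map ε.τ₂ = 0 := by
    rw [← Functor.map_comp, ← ε.comm₁₂, Functor.map_comp, h1, zero_comp]
  show ((TF P n).map ε.τ₂).hom (((TF P n).map ε'.τ₂).hom x) = 0
  have hy' : ((TF P n).map S'.f).hom y = ((TF P n).map ε'.τ₂).hom x := hy
  rw [← hy']
  exact congrArg (fun t => t.hom y) e2

/-- the morphism of short complexes of complexes induced by a morphism of short complexes -/
noncomputable def tensSCMap (ε : S ⟶ S') : tensSC P S ⟶ tensSC P S' :=
  ShortComplex.homMk (S₁ := tensSC P S) (S₂ := tensSC P S') (tensCxMap P ε.τ₁) (tensCxMap P ε.τ₂)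
    (tensCxMap P ε.τ₃)
    (by
      show (tensFun P).map ε.τ₁ ≫ (tensFun P).map S'.f = (tensFun P).map S.f ≫ (tensFun P).map ε.τ₂
      rw [← Functor.map_comp, ← Functor.map_comp, ε.comm₁₂])
    (by
      show (tensFun P).map ε.τ₂ ≫ (tensFun P).map S'.g = (tensFun P).map S.g ≫ (tensFun P).map ε.τ₃
      rw [← Functor.map_comp, ← Functor.map_comp, ε.comm₂₃])

/-- the chase through the connecting homomorphism -/
lemma chase_right (hS : S.ShortExact) (hS' : S'.ShortExact) (n : ℕ) (ε' : S ⟶ S') (ε : S' ⟶ S'')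
    (h1 : (TF P n).map ε'.τ₁ = 0) (h2 : (TF P (n + 1)).map ε.τ₂ = 0) :
    (TF P (n + 1)).map (ε' ≫ ε).τ₃ = 0 := by
  have hΦ := tensSC_shortExact P hS
  have hΦ' := tensSC_shortExact P hS'
  have hrel : (ComplexShape.down ℕ).Rel (n + 1) n := by simp
  have nat := HomologicalComplex.HomologySequence.δ_naturality (tensSCMap P ε') hΦ hΦ' (n + 1) n hrel
  have nat' : hΦ.δ (n + 1) n hrel ≫ (TF P n).map ε'.τ₁ =
      (TF P (n + 1)).map ε'.τ₃ ≫ hΦ'.δ (n + 1) n hrel := nat
  have hex := hΦ'.homology_exact₃ (n + 1) n hrel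
  have hex' : (ShortComplex.mk ((TF P (n + 1)).map S'.g) (hΦ'.δ (n + 1) n hrel)
      (hΦ'.comp_δ (n + 1) n hrel)).Exact := hex
  rw [ShortComplex.comp_τ₃, Functor.map_comp]
  apply ModuleCat.hom_ext
  apply LinearMap.ext
  intro x
  have hx : (hΦ'.δ (n + 1) n hrel).hom (((TF P (n + 1)).map ε'.τ₃).hom x) = 0 := by
    have h := congrArg (fun t => t.hom x) nat'
    have h0 : ((TF P n).map ε'.τ₁).hom ((hΦ.δ (n + 1) n hrel).hom x) = 0 := by
      rw [h1]
      rfl
    exact h.symm.trans h0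
  obtain ⟨y, hy⟩ := (ShortComplex.ShortExact.moduleCat_exact_iff_function_exact _).1 hex' _ |>.1 hx
  have e2 : (TF P (n + 1)).map S'.g ≫ (TF P (n + 1)).map ε.τ₃ = 0 := by
    rw [← Functor.map_comp, ← ε.comm₂₃, Functor.map_comp, h2, zero_comp]
  show ((TF P (n + 1)).map ε.τ₃).hom (((TF P (n + 1)).map ε'.τ₃).hom x) = 0
  have hy' : ((TF P (n + 1)).map S'.g).hom y = ((TF P (n + 1)).map ε'.τ₃).hom x := hy
  rw [← hy']
  exact congrArg (fun t => t.hom y) e2

end Chase

end Groth.Agent.H35.TorU
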