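import Mathlib
import Groth.Agent.H35.TorU.TFun

/-!
# `T_n` on linear maps (helper35, for S1739 / S0361)
-/

set_option autoImplicit false
universe u

open CategoryTheory CategoryTheory.Limits MonoidalCategory

namespace Groth.Agent.H35.TorU

variable {A : Type u} [CommRing A] {M : ModuleCat.{u} A} (P : ProjectiveResolution M)

section

variable {N N' N'' : Type u} [AddCommGroup N] [Module A N] [AddCommGroup N'] [Module A N']
  [AddCommGroup N''] [Module A N'']

/-- `T_n` applied to a linear map -/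
noncomputable def TL (n : ℕ) (φ : N →ₗ[A] N') :
    (TF P n).obj (ModuleCat.of A N) ⟶ (TF P n).obj (ModuleCat.of A N') :=
  (TF P n).map (ModuleCat.ofHom φ)

lemma TL_comp (n : ℕ) (φ : N →ₗ[A] N') (ψ : N' →ₗ[A] N'') :
    TL P n (ψ ∘ₗ φ) = TL P n φ ≫ TL P n ψ := by
  unfold TL
  rw [ModuleCat.ofHom_comp, Functor.map_comp]

lemma TL_comp_zero_left (n : ℕ) {φ : N →ₗ[A] N'} (ψ : N' →ₗ[A] N'') (h : TL P n φ = 0) :
    TL P n (ψ ∘ₗ φ) = 0 := by
  rw [TL_comp, h, zero_comp]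

lemma TL_comp_zero_right (n : ℕ) (φ : N →ₗ[A] N') {ψ : N' →ₗ[A] N''} (h : TL P n ψ = 0) :
    TL P n (ψ ∘ₗ φ) = 0 := by
  rw [TL_comp, h, comp_zero]

lemma TL_zero (n : ℕ) : TL P n (0 : N →ₗ[A] N') = 0 :=
  TF_map_zero P n _ _

lemma TL_add (n : ℕ) (φ φ' : N →ₗ[A] N') : TL P n (φ + φ') = TL P n φ + TL P n φ' := by
  unfold TL
  rw [ModuleCat.ofHom_add, TF_map_add]

lemma TL_add_zero (n : ℕ) {φ φ' : N →ₗ[A] N'} (h : TL P n φ = 0) (h' : TL P n φ' = 0) :
    TL P n (φ + φ') = 0 := by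
  rw [TL_add, h, h', add_zero]

lemma TL_sum_zero (n : ℕ) {ι : Type*} (s : Finset ι) (φ : ι → (N →ₗ[A] N'))
    (h : ∀ j ∈ s, TL P n (φ j) = 0) : TL P n (∑ j ∈ s, φ j) = 0 := by
  classical
  induction s using Finset.induction_on with
  | empty => rw [Finset.sum_empty, TL_zero]
  | insert j s hj ih =>
    rw [Finset.sum_insert hj]
    exact TL_add_zero P n (h j (Finset.mem_insert_self j s))
      (ih fun i hi => h i (Finset.mem_insert_of_mem hi))

lemma TL_smul (n : ℕ) (a : A) (φ : N →ₗ[A] N') : TL P n (a • φ) = a • TL P n φ := by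
  unfold TL
  have : ModuleCat.ofHom (a • φ) = a • ModuleCat.ofHom φ := rfl
  rw [this, TF_map_smul]

lemma TL_id (n : ℕ) : TL P n (LinearMap.id : N →ₗ[A] N) = 𝟙 _ := by
  unfold TL
  rw [ModuleCat.ofHom_id, CategoryTheory.Functor.map_id]

lemma TL_of_subsingleton_src (n : ℕ) [Subsingleton N] (φ : N →ₗ[A] N') : TL P n φ = 0 := by
  have hz : IsZero (ModuleCat.of A N) := ModuleCat.isZero_of_subsingleton _
  exact (isZero_TF_of_isZero P n _ hz).eq_of_src _ _

lemma TL_of_subsingleton_tgt (n : ℕ) [Subsingleton N'] (φ : N →ₗ[A] N') : TL P n φ = 0 := by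
  have hz : IsZero (ModuleCat.of A N') := ModuleCat.isZero_of_subsingleton _
  exact (isZero_TF_of_isZero P n _ hz).eq_of_tgt _ _

lemma TL_succ_of_flat_src (n : ℕ) [Module.Flat A N] (φ : N →ₗ[A] N') : TL P (n + 1) φ = 0 := by
  have : Module.Flat A (ModuleCat.of A N) := ‹Module.Flat A N›
  exact (isZero_TF_succ_of_flat P n (ModuleCat.of A N)).eq_of_src _ _

end

end Groth.Agent.H35.TorU
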