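import Mathlib
import Groth.Agent.H35.TorU.TL
import Groth.Agent.H35.TorU.QuotMaps

/-!
# Vanishing of `T_n` on endomorphisms and transitions of `A[X]/J^q` (helper35, S1739 / S0361)
-/

set_option autoImplicit false
universe u

open Polynomial CategoryTheory

namespace Groth.Agent.H35.TorU

section

variable {A : Type u} [CommRing A]

lemma lcomp_sum {N N' N'' : Type*} [AddCommGroup N] [Module A N] [AddCommGroup N'] [Module A N']
    [AddCommGroup N''] [Module A N''] {ι : Type*} (s : Finset ι) (g : N' →ₗ[A] N'')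
    (φ : ι → N →ₗ[A] N') : g.comp (∑ j ∈ s, φ j) = ∑ j ∈ s, g.comp (φ j) :=
  LinearMap.ext fun x => by
    simp only [LinearMap.comp_apply, LinearMap.sum_apply, map_sum]

variable (I' : Ideal A) {M : ModuleCat.{u} A} (P : ProjectiveResolution M)

lemma TL_trI_zero (n c' : ℕ) (hb : ∀ m, TL P n (trI I' m (m - c') (Nat.sub_le _ _)) = 0)
    (m m' : ℕ) (h : m' ≤ m - c') : TL P n (trI I' m m' (h.trans (Nat.sub_le _ _))) = 0 := by
  rw [← trI_comp I' m (m - c') m' (Nat.sub_le _ _) h]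
  exact TL_comp_zero_left P n _ (hb m)

/-- `X^e ·` and the transitions have vanishing `T_n` -/
lemma TL_qm_X_pow (n c' : ℕ) (hb : ∀ m, TL P n (trI I' m (m - c') (Nat.sub_le _ _)) = 0)
    (q q' e : ℕ) (hc : q' ≤ (q - c') + e) (hX : ∀ u ∈ Jid I' ^ q, X ^ e * u ∈ Jid I' ^ q') :
    TL P n (qm (A := A) (Jid I' ^ q) (Jid I' ^ q') (X ^ e) hX) = 0 := by
  have h1 : qm (A := A) (Jid I' ^ q) (Jid I' ^ q') (X ^ e) hX =
      ∑ j ∈ Finset.range q, ((ιJ I' ((q - j) - c') (j + e) q' (by omega)).comp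
        (trI I' (q - j) ((q - j) - c') (Nat.sub_le _ _))).comp (πJ I' q j (q - j) le_rfl) := by
    calc qm (A := A) (Jid I' ^ q) (Jid I' ^ q') (X ^ e) hX
        = (qm (A := A) (Jid I' ^ q) (Jid I' ^ q') (X ^ e) hX).comp LinearMap.id :=
          (LinearMap.comp_id _).symm
      _ = (qm (A := A) (Jid I' ^ q) (Jid I' ^ q') (X ^ e) hX).comp
            (∑ j ∈ Finset.range q, (ιJ I' (q - j) j q (by omega)).comp
              (πJ I' q j (q - j) le_rfl)) := by rw [sum_ιJ_πJ]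
      _ = ∑ j ∈ Finset.range q, (qm (A := A) (Jid I' ^ q) (Jid I' ^ q') (X ^ e) hX).comp
            ((ιJ I' (q - j) j q (by omega)).comp (πJ I' q j (q - j) le_rfl)) := lcomp_sum _ _ _
      _ = _ := Finset.sum_congr rfl fun j _ => by
          rw [← LinearMap.comp_assoc,
            qm_X_pow_comp_ιJ I' (q - j) ((q - j) - c') j e q q' (by omega) (Nat.sub_le _ _)
              (by omega) hX]
  rw [h1]
  apply TL_sum_zero
  intro j _
  exact TL_comp_zero_right P n _ (TL_comp_zero_left P n _ (hb (q - j)))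

/-- scalars from `I'^c'` have vanishing `T_n` on `A[X]/J^q` -/
lemma TL_smul_id_E (n : ℕ) (a : A)
    (ha : ∀ m, TL P n (a • (LinearMap.id : (A ⧸ I' ^ m) →ₗ[A] (A ⧸ I' ^ m))) = 0) (q : ℕ) :
    TL P n (a • (LinearMap.id : (A[X] ⧸ Jid I' ^ q) →ₗ[A] (A[X] ⧸ Jid I' ^ q))) = 0 := by
  have h1 : a • (LinearMap.id : (A[X] ⧸ Jid I' ^ q) →ₗ[A] (A[X] ⧸ Jid I' ^ q)) =
      ∑ j ∈ Finset.range q, ((ιJ I' (q - j) j q (by omega)).comp (a • LinearMap.id)).comp
        (πJ I' q j (q - j) le_rfl) := by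
    rw [← sum_ιJ_πJ I' q, Finset.smul_sum]
    exact Finset.sum_congr rfl fun j _ => smul_ιJ_comp_πJ I' a (q - j) j q _ _
  rw [h1]
  apply TL_sum_zero
  intro j _
  exact TL_comp_zero_right P n _ (TL_comp_zero_left P n _ (ha (q - j)))

/-- elements of `J^(c'+c')` have vanishing `T_n` on `A[X]/J^q` -/
lemma TL_qm_E (n c' : ℕ)
    (ha : ∀ a ∈ I' ^ c', ∀ m, TL P n (a • (LinearMap.id : (A ⧸ I' ^ m) →ₗ[A] (A ⧸ I' ^ m))) = 0)
    (hb : ∀ m, TL P n (trI I' m (m - c') (Nat.sub_le _ _)) = 0) (q : ℕ) (b : A[X])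
    (hb' : b ∈ Jid I' ^ (c' + c')) :
    TL P n (qm (A := A) (Jid I' ^ q) (Jid I' ^ q) b (fun u hu => Ideal.mul_mem_left _ b hu)) = 0 := by
  have h1 : b ∈ (I' ^ c').map (C : A →+* A[X]) ⊔ Ideal.span {(X : A[X]) ^ c'} := by
    have h2 := Ideal.sup_pow_add_le_pow_sup_pow (I := I'.map (C : A →+* A[X]))
      (J := Ideal.span {(X : A[X])}) (n := c') (m := c') hb'
    rwa [← Ideal.map_pow, Ideal.span_singleton_pow] at h2
  obtain ⟨b1, hb1, b2, hb2, rfl⟩ := Submodule.mem_sup.1 h1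
  rw [qm_add (fun u hu => Ideal.mul_mem_left _ b1 hu) (fun u hu => Ideal.mul_mem_left _ b2 hu)]
  apply TL_add_zero
  · -- the part from `I'^c'`
    have key : ∀ b1 ∈ (I' ^ c').map (C : A →+* A[X]),
        TL P n (qm (A := A) (Jid I' ^ q) (Jid I' ^ q) b1
          (fun u hu => Ideal.mul_mem_left _ b1 hu)) = 0 := by
      intro b1 hb1
      refine Submodule.span_induction (p := fun b1 _ =>
        TL P n (qm (A := A) (Jid I' ^ q) (Jid I' ^ q) b1
          (fun u hu => Ideal.mul_mem_left _ b1 hu)) = 0) ?_ ?_ ?_ ?_ hb1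
      · rintro _ ⟨a, ha', rfl⟩
        have := qm_algebraMap (A := A) (Jid I' ^ q) a (fun u hu => Ideal.mul_mem_left _ _ hu)
        rw [show (C a : A[X]) = algebraMap A A[X] a from rfl, this]
        exact TL_smul_id_E I' P n a (ha a ha') q
      · have : qm (A := A) (Jid I' ^ q) (Jid I' ^ q) 0
            (fun u hu => Ideal.mul_mem_left _ 0 hu) = 0 :=
          qext fun u => by rw [qm_mk, zero_mul]; rfl
        rw [this, TL_zero]
      · intro x y _ _ hx hy
        rw [qm_add (fun u hu => Ideal.mul_mem_left _ x hu) (fun u hu => Ideal.mul_mem_left _ y hu)]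
        exact TL_add_zero P n hx hy
      · intro g x _ hx
        rw [smul_eq_mul, ← qm_comp (A := A) (Jid I' ^ q) (Jid I' ^ q) (Jid I' ^ q) x g
          (fun u hu => Ideal.mul_mem_left _ x hu) (fun u hu => Ideal.mul_mem_left _ g hu)]
        exact TL_comp_zero_left P n _ hx
    exact key b1 hb1
  · -- the part from `X^c'`
    obtain ⟨g, rfl⟩ := Ideal.mem_span_singleton'.1 hb2
    rw [← qm_comp (A := A) (Jid I' ^ q) (Jid I' ^ q) (Jid I' ^ q) (X ^ c') g
      (fun u hu => Ideal.mul_mem_left _ _ hu) (fun u hu => Ideal.mul_mem_left _ g hu)]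
    exact TL_comp_zero_left P n _ (TL_qm_X_pow I' P n c' hb q q c' (by omega) _)

end

end Groth.Agent.H35.TorU
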