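import Mathlib
import Groth.Agent.H35.TorU.EVanish

/-!
# The sequence `0 → B/(J^q : θ) → B/J^q → B/(J^q + θ) → 0` and the chase (helper35, S1739 / S0361)
-/

set_option autoImplicit false
universe u

open Polynomial CategoryTheory

namespace Groth.Agent.H35.TorU

section Ann

variable {A : Type u} [CommRing A] {B : Type u} [CommRing B] [Algebra A B]
  {M : ModuleCat.{u} A} (P : ProjectiveResolution M)

/-- the ideal of elements of `B` acting by zero on `T_n(B/𝔠)` -/
noncomputable def annT (𝔠 : Ideal B) (n : ℕ) : Ideal B where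
  carrier := {b | TL P n (qm (A := A) 𝔠 𝔠 b (fun u hu => Ideal.mul_mem_left _ b hu)) = 0}
  add_mem' := by
    intro x y hx hy
    show TL P n (qm (A := A) 𝔠 𝔠 (x + y) _) = 0
    rw [qm_add (fun u hu => Ideal.mul_mem_left _ x hu) (fun u hu => Ideal.mul_mem_left _ y hu)]
    exact TL_add_zero P n hx hy
  zero_mem' := by
    show TL P n (qm (A := A) 𝔠 𝔠 0 _) = 0
    have : qm (A := A) 𝔠 𝔠 0 (fun u hu => Ideal.mul_mem_left _ 0 hu) = 0 :=
      qext fun u => by rw [qm_mk, zero_mul]; rfl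
    rw [this, TL_zero]
  smul_mem' := by
    intro g x hx
    show TL P n (qm (A := A) 𝔠 𝔠 (g • x) _) = 0
    rw [smul_eq_mul, ← qm_comp (A := A) 𝔠 𝔠 𝔠 x g
      (fun u hu => Ideal.mul_mem_left _ x hu) (fun u hu => Ideal.mul_mem_left _ g hu)]
    exact TL_comp_zero_left P n _ hx

lemma mem_annT {𝔠 : Ideal B} {n : ℕ} {b : B} :
    b ∈ annT (A := A) P 𝔠 n ↔
      TL P n (qm (A := A) 𝔠 𝔠 b (fun u hu => Ideal.mul_mem_left _ b hu)) = 0 := Iff.rfl

end Ann

section S2

variable {A : Type u} [CommRing A] (I' : Ideal A) (f : A)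

/-- `(J^q : θ)` -/
noncomputable def Col (q : ℕ) : Ideal A[X] :=
  Submodule.comap (LinearMap.mulLeft A[X] (θp f)) (Jid I' ^ q)

lemma mem_Col {q : ℕ} {u : A[X]} : u ∈ Col I' f q ↔ θp f * u ∈ Jid I' ^ q := Iff.rfl

lemma Jid_pow_le_Col (q : ℕ) : Jid I' ^ q ≤ Col I' f q := fun _ hu =>
  Ideal.mul_mem_left _ _ hu

lemma Col_mul_mem {q q' : ℕ} (hq : q' ≤ q) (b : A[X]) {u : A[X]} (hu : u ∈ Col I' f q) :
    b * u ∈ Col I' f q' := by
  rw [mem_Col] at hu ⊢
  rw [mul_left_comm]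
  exact Ideal.pow_le_pow_right hq (Ideal.mul_mem_left _ _ hu)

/-- `J^q + (θ)` -/
noncomputable def Nid (q : ℕ) : Ideal A[X] := Jid I' ^ q ⊔ Ideal.span {θp f}

lemma Nid_mul_mem {q q' : ℕ} (hq : q' ≤ q) (b : A[X]) {u : A[X]} (hu : u ∈ Nid I' f q) :
    b * u ∈ Nid I' f q' :=
  (sup_le_sup_right (Ideal.pow_le_pow_right hq) _ : Nid I' f q ≤ Nid I' f q')
    (Ideal.mul_mem_left _ b hu)

lemma Jid_mul_mem {q q' : ℕ} (hq : q' ≤ q) (b : A[X]) {u : A[X]} (hu : u ∈ Jid I' ^ q) :
    b * u ∈ Jid I' ^ q' :=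
  Ideal.pow_le_pow_right hq (Ideal.mul_mem_left _ b hu)

/-- the short complex `B/(J^q : θ) → B/J^q → B/(J^q + θ)` of `A`-modules -/
noncomputable def S2 (q : ℕ) : ShortComplex (ModuleCat.{u} A) :=
  ShortComplex.mk
    (ModuleCat.ofHom (qm (A := A) (Col I' f q) (Jid I' ^ q) (θp f) (fun _ hu => hu)))
    (ModuleCat.ofHom (qm (A := A) (Jid I' ^ q) (Nid I' f q) 1
      (fun u hu => by rw [one_mul]; exact Ideal.mem_sup_left hu)))
    (by
      have : (qm (A := A) (Jid I' ^ q) (Nid I' f q) 1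
          (fun u hu => by rw [one_mul]; exact Ideal.mem_sup_left hu)).comp
          (qm (A := A) (Col I' f q) (Jid I' ^ q) (θp f) (fun _ hu => hu)) = 0 :=
        qext fun u => by
          rw [LinearMap.comp_apply, qm_mk, qm_mk, one_mul, LinearMap.zero_apply,
            Ideal.Quotient.eq_zero_iff_mem]
          exact Ideal.mem_sup_right (Ideal.mul_mem_right _ _ (Ideal.subset_span rfl))
      rw [← ModuleCat.ofHom_comp, this]
      rfl)

lemma S2_shortExact (q : ℕ) : (S2 I' f q).ShortExact where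
  exact := by
    rw [ShortComplex.moduleCat_exact_iff]
    intro x₂ hx₂
    obtain ⟨p, rfl⟩ := Ideal.Quotient.mk_surjective (I := Jid I' ^ q) x₂
    have h : qm (A := A) (Jid I' ^ q) (Nid I' f q) 1
        (fun u hu => by rw [one_mul]; exact Ideal.mem_sup_left hu)
        (Ideal.Quotient.mk (Jid I' ^ q) p) = 0 := hx₂
    rw [qm_mk, one_mul, Ideal.Quotient.eq_zero_iff_mem] at h
    obtain ⟨j, hj, z, hz, hjz⟩ := Submodule.mem_sup.1 h
    obtain ⟨v, rfl⟩ := Ideal.mem_span_singleton'.1 hz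
    refine ⟨Ideal.Quotient.mk (Col I' f q) v, ?_⟩
    show qm (A := A) (Col I' f q) (Jid I' ^ q) (θp f) (fun _ hu => hu)
      (Ideal.Quotient.mk (Col I' f q) v) = Ideal.Quotient.mk (Jid I' ^ q) p
    rw [qm_mk, eq_comm, Ideal.Quotient.eq, ← hjz, mul_comm v]
    simpa using hj
  mono_f := by
    rw [ModuleCat.mono_iff_injective]
    show Function.Injective (qm (A := A) (Col I' f q) (Jid I' ^ q) (θp f) (fun _ hu => hu))
    rw [injective_iff_map_eq_zero]
    intro x hx
    obtain ⟨u, rfl⟩ := Ideal.Quotient.mk_surjective x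
    rw [qm_mk, Ideal.Quotient.eq_zero_iff_mem] at hx
    rw [Ideal.Quotient.eq_zero_iff_mem]
    exact hx
  epi_g := by
    rw [ModuleCat.epi_iff_surjective]
    show Function.Surjective (qm (A := A) (Jid I' ^ q) (Nid I' f q) 1
        (fun u hu => by rw [one_mul]; exact Ideal.mem_sup_left hu))
    intro x
    obtain ⟨u, rfl⟩ := Ideal.Quotient.mk_surjective x
    exact ⟨Ideal.Quotient.mk _ u, by rw [qm_mk, one_mul]⟩

/-- multiplication by `b` (composed with transitions) as a morphism of short complexes -/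
noncomputable def S2map (q q' : ℕ) (hq : q' ≤ q) (b : A[X]) : S2 I' f q ⟶ S2 I' f q' :=
  ShortComplex.homMk (S₁ := S2 I' f q) (S₂ := S2 I' f q')
    (ModuleCat.ofHom (qm (A := A) (Col I' f q) (Col I' f q') b
      (fun _ hu => Col_mul_mem I' f hq b hu)))
    (ModuleCat.ofHom (qm (A := A) (Jid I' ^ q) (Jid I' ^ q') b
      (fun _ hu => Jid_mul_mem I' hq b hu)))
    (ModuleCat.ofHom (qm (A := A) (Nid I' f q) (Nid I' f q') b
      (fun _ hu => Nid_mul_mem I' f hq b hu)))
    (by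
      show ModuleCat.ofHom _ ≫ ModuleCat.ofHom _ = ModuleCat.ofHom _ ≫ ModuleCat.ofHom _
      rw [← ModuleCat.ofHom_comp, ← ModuleCat.ofHom_comp]
      congr 1
      exact qext fun u => by
        simp only [LinearMap.comp_apply, qm_mk]
        rw [mul_left_comm])
    (by
      show ModuleCat.ofHom _ ≫ ModuleCat.ofHom _ = ModuleCat.ofHom _ ≫ ModuleCat.ofHom _
      rw [← ModuleCat.ofHom_comp, ← ModuleCat.ofHom_comp]
      congr 1
      exact qext fun u => by
        simp only [LinearMap.comp_apply, qm_mk]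
        rw [mul_left_comm])

variable {M : ModuleCat.{u} A} (P : ProjectiveResolution M)

/-- the chase through `S2` -/
lemma TL_N_of (n q q' q'' : ℕ) (hq : q' ≤ q) (hq' : q'' ≤ q') (b' b'' : A[X])
    (h1 : TL P n (qm (A := A) (Col I' f q) (Col I' f q') b'
      (fun _ hu => Col_mul_mem I' f hq b' hu)) = 0)
    (h2 : TL P (n + 1) (qm (A := A) (Jid I' ^ q') (Jid I' ^ q'') b''
      (fun _ hu => Jid_mul_mem I' hq' b'' hu)) = 0) :
    TL P (n + 1) (qm (A := A) (Nid I' f q) (Nid I' f q'') (b'' * b')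
      (fun _ hu => Nid_mul_mem I' f (hq'.trans hq) _ hu)) = 0 := by
  have key := chase_right P (S2_shortExact I' f q) (S2_shortExact I' f q') n
    (S2map I' f q q' hq b') (S2map I' f q' q'' hq' b'') h1 h2
  rw [ShortComplex.comp_τ₃] at key
  have e : (S2map I' f q q' hq b').τ₃ ≫ (S2map I' f q' q'' hq' b'').τ₃ =
      ModuleCat.ofHom (qm (A := A) (Nid I' f q) (Nid I' f q'') (b'' * b')
        (fun _ hu => Nid_mul_mem I' f (hq'.trans hq) _ hu)) := by
    show ModuleCat.ofHom _ ≫ ModuleCat.ofHom _ = _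
    rw [← ModuleCat.ofHom_comp, qm_comp]
  rw [e] at key
  exact key

end S2

end Groth.Agent.H35.TorU
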