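import Mathlib
import Groth.Agent.H35.TorU.SES2

/-!
# The induction on the number of generators (helper35, S1739 / S0361)
-/

set_option autoImplicit false
universe u

open Polynomial CategoryTheory

namespace Groth.Agent.H35.TorU

section Transfer

variable {A : Type u} [CommRing A] (I' : Ideal A) (f : A)

lemma exists_mem_Jid_pow_eval_eq {c : ℕ} {a : A} (ha : a ∈ (I' ⊔ Ideal.span {f}) ^ c) :
    ∃ b ∈ Jid I' ^ c, b.eval f = a := by
  have hsurj : Function.Surjective (evalRingHom f) := fun a => ⟨C a, by simp⟩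
  have h1 : a ∈ (Jid I' ^ c).map (evalRingHom f) := by
    rw [Ideal.map_pow, map_eval_Jid]
    exact ha
  obtain ⟨b, hb, he⟩ := (Ideal.mem_map_iff_of_surjective _ hsurj).1 h1
  exact ⟨b, hb, he⟩

lemma eval_mem_of_mem_Nid {q : ℕ} {u : A[X]} (hu : u ∈ Nid I' f q) :
    u.eval f ∈ (I' ⊔ Ideal.span {f}) ^ q := by
  obtain ⟨j, hj, z, hz, rfl⟩ := Submodule.mem_sup.1 hu
  obtain ⟨g, rfl⟩ := Ideal.mem_span_singleton'.1 hz
  rw [eval_add, eval_mul, eval_θp, mul_zero, add_zero]
  exact eval_mem_of_mem_Jid_pow I' f hj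

/-- `ā ↦ [a]` -/
noncomputable def σN (q : ℕ) : (A ⧸ (I' ⊔ Ideal.span {f}) ^ q) →ₗ[A] (A[X] ⧸ Nid I' f q) :=
  Submodule.liftQ ((I' ⊔ Ideal.span {f}) ^ q)
    (((Nid I' f q).mkQ.restrictScalars A).comp (monomial 0)) (by
      intro a ha
      rw [LinearMap.mem_ker]
      refine (Submodule.Quotient.mk_eq_zero _).2 (mem_sup_of_eval_mem I' f ?_)
      rw [monomial_zero_left, eval_C]
      exact ha)

lemma σN_mk (q : ℕ) (a : A) :
    σN I' f q (Ideal.Quotient.mk _ a) = Ideal.Quotient.mk (Nid I' f q) (C a) := by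
  rw [← monomial_zero_left]
  rfl

/-- `[p] ↦ [p(f)]` -/
noncomputable def ψN (q : ℕ) : (A[X] ⧸ Nid I' f q) →ₗ[A] (A ⧸ (I' ⊔ Ideal.span {f}) ^ q) :=
  liftA (Nid I' f q) (((I' ⊔ Ideal.span {f}) ^ q).mkQ.comp (leval f)) (by
    intro u hu
    exact (Submodule.Quotient.mk_eq_zero _).2 (eval_mem_of_mem_Nid I' f hu))

lemma ψN_mk (q : ℕ) (p : A[X]) :
    ψN I' f q (Ideal.Quotient.mk (Nid I' f q) p) = Ideal.Quotient.mk _ (p.eval f) := rfl

lemma ψN_qm_σN (q q' : ℕ) (hq : q' ≤ q) (b : A[X]) :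
    ((ψN I' f q').comp (qm (A := A) (Nid I' f q) (Nid I' f q') b
      (fun _ hu => Nid_mul_mem I' f hq b hu))).comp (σN I' f q) =
      b.eval f • trI (I' ⊔ Ideal.span {f}) q q' hq :=
  aext fun a => by
    rw [LinearMap.comp_apply, LinearMap.comp_apply, σN_mk, qm_mk, ψN_mk, LinearMap.smul_apply,
      trI_mk, eval_mul, eval_C]
    rfl

lemma trI_self (I : Ideal A) (q : ℕ) : trI I q q le_rfl = LinearMap.id :=
  aext fun _ => rfl

end Transfer

section Claim

variable {A : Type u} [CommRing A]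

/-- the uniform vanishing statement for `I` above degree `t` -/
def Claim (I : Ideal A) (t : ℕ) : Prop :=
  ∃ c : ℕ, ∀ (M : ModuleCat.{u} A) (P : ProjectiveResolution M) (n : ℕ), t < n →
    (∀ a ∈ I ^ c, ∀ q, TL P n (a • (LinearMap.id : (A ⧸ I ^ q) →ₗ[A] (A ⧸ I ^ q))) = 0) ∧
    (∀ q, TL P n (trI I q (q - c) (Nat.sub_le _ _)) = 0)

lemma Claim.mono {I : Ideal A} {t t' : ℕ} (h : Claim I t) (ht : t ≤ t') : Claim I t' := by
  obtain ⟨c, hc⟩ := h
  exact ⟨c, fun M P n hn => hc M P n (lt_of_le_of_lt ht hn)⟩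

/-- the base case: the zero ideal -/
lemma claim_bot : Claim (⊥ : Ideal A) 0 := by
  refine ⟨0, fun M P n hn => ?_⟩
  obtain ⟨m, rfl⟩ : ∃ m, n = m + 1 := ⟨n - 1, by omega⟩
  have key : ∀ (q : ℕ) (φ : (A ⧸ (⊥ : Ideal A) ^ q) →ₗ[A] (A ⧸ (⊥ : Ideal A) ^ (q - 0))),
      TL P (m + 1) φ = 0 := by
    intro q φ
    rcases Nat.eq_zero_or_pos q with rfl | hq
    · have : Subsingleton (A ⧸ (⊥ : Ideal A) ^ 0) := by
        rw [pow_zero, Ideal.one_eq_top]
        exact Ideal.Quotient.subsingleton_iff.2 rfl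
      exact TL_of_subsingleton_src P _ φ
    · have hb : (⊥ : Ideal A) ^ q = ⊥ := by
        rw [Ideal.bot_pow (Nat.pos_iff_ne_zero.1 hq)]
      have : Module.Flat A (A ⧸ (⊥ : Ideal A) ^ q) := by
        rw [hb]
        exact Module.Flat.of_linearEquiv (Submodule.quotEquivOfEqBot (⊥ : Submodule A A) rfl)
      exact TL_succ_of_flat_src P m φ
  exact ⟨fun a _ q => key q _, fun q => key q _⟩

variable [IsNoetherianRing A]

/-- the inductive step: adding one generator -/
lemma claim_step (I' : Ideal A) (f : A) (t' : ℕ) (h : Claim I' t') :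
    Claim (I' ⊔ Ideal.span {f}) (t' + 1) := by
  obtain ⟨c', hc'⟩ := h
  obtain ⟨k, hk⟩ := exists_AR I' f
  refine ⟨(c' + c') + ((c' + c') + k), fun M P n hn => ?_⟩
  obtain ⟨m, rfl⟩ : ∃ m, n = m + 1 := ⟨n - 1, by omega⟩
  have hm : t' < m := by omega
  have hm1 : t' < m + 1 := by omega
  obtain ⟨ha0, hb0⟩ := hc' M P m hm
  obtain ⟨ha1, hb1⟩ := hc' M P (m + 1) hm1
  -- the column ideal is squeezed between powers of `J`
  have hCol : ∀ q, Col I' f q ≤ Jid I' ^ (q - k) := fun q u hu => hk q u hu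
  -- (Ea)
  have hEa : ∀ (n' : ℕ), t' < n' → ∀ q, Jid I' ^ (c' + c') ≤ annT (A := A) P (Jid I' ^ q) n' := by
    intro n' hn' q b hb
    obtain ⟨ha, hb''⟩ := hc' M P n' hn'
    exact TL_qm_E I' P n' c' ha hb'' q b hb
  -- (Eb)
  have hEb : ∀ (n' : ℕ), t' < n' → ∀ q q' (hq : q' ≤ q), q' ≤ q - c' →
      TL P n' (qm (A := A) (Jid I' ^ q) (Jid I' ^ q') 1
        (fun _ hu => Jid_mul_mem I' hq 1 hu)) = 0 := by
    intro n' hn' q q' hq hqc
    obtain ⟨_, hb''⟩ := hc' M P n' hn'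
    have := TL_qm_X_pow I' P n' c' hb'' q q' 0 (by omega)
      (fun _ hu => Jid_mul_mem I' hq _ hu)
    have e : qm (A := A) (Jid I' ^ q) (Jid I' ^ q') 1 (fun _ hu => Jid_mul_mem I' hq 1 hu) =
        qm (A := A) (Jid I' ^ q) (Jid I' ^ q') (X ^ 0) (fun _ hu => Jid_mul_mem I' hq _ hu) :=
      qm_congr' _ (pow_zero X).symm
    rw [e]
    exact this
  -- (Ra)
  have hRa : ∀ q, Jid I' ^ (c' + c') * Jid I' ^ k ≤ annT (A := A) P (Col I' f q) m := by
    intro q
    rw [Ideal.mul_le]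
    intro b1 hb1' b2 hb2
    rw [mem_annT]
    have hfac : qm (A := A) (Col I' f q) (Col I' f q) (b1 * b2)
        (fun u hu => Ideal.mul_mem_left _ (b1 * b2) hu) =
        ((qm (A := A) (Jid I' ^ q) (Col I' f q) 1
          (fun u hu => by rw [one_mul]; exact Jid_pow_le_Col I' f q hu)).comp
        (qm (A := A) (Jid I' ^ q) (Jid I' ^ q) b1 (fun u hu => Ideal.mul_mem_left _ b1 hu))).comp
        (qm (A := A) (Col I' f q) (Jid I' ^ q) b2 (fun u hu => by
          have h1 : u ∈ Jid I' ^ (q - k) := hCol q hu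
          have h2 : b2 * u ∈ Jid I' ^ (k + (q - k)) := by
            rw [pow_add]
            exact Ideal.mul_mem_mul hb2 h1
          exact Ideal.pow_le_pow_right (by omega) h2)) :=
      qext fun u => by
        simp only [LinearMap.comp_apply, qm_mk]
        rw [one_mul, mul_assoc]
    rw [hfac]
    have hE : TL P m (qm (A := A) (Jid I' ^ q) (Jid I' ^ q) b1
        (fun u hu => Ideal.mul_mem_left _ b1 hu)) = 0 := (mem_annT P).1 (hEa m hm q hb1')
    exact TL_comp_zero_right P m _ (TL_comp_zero_left P m _ hE)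
  -- (Rb)
  have hRb : ∀ q q' (hq : q' ≤ q), q' ≤ (q - k) - c' →
      TL P m (qm (A := A) (Col I' f q) (Col I' f q') 1
        (fun _ hu => Col_mul_mem I' f hq 1 hu)) = 0 := by
    intro q q' hq hqc
    have hfac : qm (A := A) (Col I' f q) (Col I' f q') 1
        (fun _ hu => Col_mul_mem I' f hq 1 hu) =
        ((qm (A := A) (Jid I' ^ q') (Col I' f q') 1
          (fun u hu => by rw [one_mul]; exact Jid_pow_le_Col I' f q' hu)).comp
        (qm (A := A) (Jid I' ^ (q - k)) (Jid I' ^ q') 1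
          (fun _ hu => Jid_mul_mem I' (hqc.trans (Nat.sub_le _ _)) 1 hu))).comp
        (qm (A := A) (Col I' f q) (Jid I' ^ (q - k)) 1 (fun u hu => by
          rw [one_mul]; exact hCol q hu)) :=
      qext fun u => by
        simp only [LinearMap.comp_apply, qm_mk, one_mul]
    rw [hfac]
    exact TL_comp_zero_right P m _ (TL_comp_zero_left P m _
      (hEb m hm (q - k) q' (hqc.trans (Nat.sub_le _ _)) hqc))
  -- (N'a)
  have hNa : ∀ q, Jid I' ^ ((c' + c') + ((c' + c') + k)) ≤ annT (A := A) P (Nid I' f q) (m + 1) := by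
    intro q
    rw [pow_add, pow_add (Jid I') (c' + c') k, Ideal.mul_le]
    intro b'' hb'' b' hb'
    rw [mem_annT]
    have hR : TL P m (qm (A := A) (Col I' f q) (Col I' f q) b'
        (fun _ hu => Col_mul_mem I' f le_rfl b' hu)) = 0 := (mem_annT P).1 (hRa q hb')
    have hE : TL P (m + 1) (qm (A := A) (Jid I' ^ q) (Jid I' ^ q) b''
        (fun _ hu => Jid_mul_mem I' le_rfl b'' hu)) = 0 := (mem_annT P).1 (hEa (m + 1) hm1 q hb'')
    exact TL_N_of I' f P m q q q le_rfl le_rfl b' b'' hR hE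
  -- (N'b)
  have hNb : ∀ q q' (hq : q' ≤ q), q' ≤ ((q - k) - c') - c' →
      TL P (m + 1) (qm (A := A) (Nid I' f q) (Nid I' f q') 1
        (fun _ hu => Nid_mul_mem I' f hq 1 hu)) = 0 := by
    intro q q' hq hqc
    have h1 := TL_N_of I' f P m q ((q - k) - c') q' (by omega) (hqc.trans (Nat.sub_le _ _)) 1 1
      (hRb q ((q - k) - c') (by omega) le_rfl)
      (hEb (m + 1) hm1 ((q - k) - c') q' (hqc.trans (Nat.sub_le _ _)) hqc)
    have e : qm (A := A) (Nid I' f q) (Nid I' f q') 1 (fun _ hu => Nid_mul_mem I' f hq 1 hu) =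
        qm (A := A) (Nid I' f q) (Nid I' f q') (1 * 1) (fun _ hu => Nid_mul_mem I' f hq _ hu) :=
      qm_congr' _ (one_mul 1).symm
    rw [e]
    exact h1
  constructor
  · -- (a)
    intro a ha q
    obtain ⟨b, hb, rfl⟩ := exists_mem_Jid_pow_eval_eq I' f ha
    have h1 := ψN_qm_σN I' f q q le_rfl b
    rw [trI_self] at h1
    rw [← h1]
    have hN : TL P (m + 1) (qm (A := A) (Nid I' f q) (Nid I' f q) b
        (fun _ hu => Nid_mul_mem I' f le_rfl b hu)) = 0 := (mem_annT P).1 (hNa q hb)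
    exact TL_comp_zero_right P (m + 1) _ (TL_comp_zero_left P (m + 1) _ hN)
  · -- (b)
    intro q
    have h1 := ψN_qm_σN I' f q (q - ((c' + c') + ((c' + c') + k))) (Nat.sub_le _ _) 1
    rw [eval_one, one_smul] at h1
    rw [← h1]
    exact TL_comp_zero_right P (m + 1) _ (TL_comp_zero_left P (m + 1) _
      (hNb q _ (Nat.sub_le _ _) (by omega)))

/-- the claim for an ideal generated by a finite set -/
lemma claim_span (s : Finset A) : Claim (Ideal.span (s : Set A)) s.card := by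
  classical
  induction s using Finset.induction_on with
  | empty =>
    rw [Finset.coe_empty, Ideal.span_empty, Finset.card_empty]
    exact claim_bot
  | insert f s hf ih =>
    rw [Finset.card_insert_of_notMem hf, Finset.coe_insert, Ideal.span_insert, sup_comm]
    exact claim_step _ f _ ih

end Claim

end Groth.Agent.H35.TorU
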