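import Mathlib
import Groth.Agent.H35.TorU.Step

/-!
# The left chase, and `I^c` kills `T_n(I^q)` (helper35, S8938)
-/

set_option autoImplicit false
universe u

open CategoryTheory CategoryTheory.Limits MonoidalCategory

namespace Groth.Agent.H35.TorU

open Groth.Agent.H18

variable {A : Type u} [CommRing A] {M : ModuleCat.{u} A} (P : ProjectiveResolution M)

section Chase

variable {S S' S'' : ShortComplex (ModuleCat.{u} A)}

/-- the chase through the connecting homomorphism, towards the left -/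
lemma chase_left (hS' : S'.ShortExact) (hS'' : S''.ShortExact) (n : ℕ) (ε' : S ⟶ S')
    (ε : S' ⟶ S'') (h2 : (TF P n).map ε'.τ₂ = 0) (h3 : (TF P (n + 1)).map ε.τ₃ = 0) :
    (TF P n).map (ε' ≫ ε).τ₁ = 0 := by
  have hΦ' := tensSC_shortExact P hS'
  have hΦ'' := tensSC_shortExact P hS''
  have hrel : (ComplexShape.down ℕ).Rel (n + 1) n := by simp
  have nat := HomologicalComplex.HomologySequence.δ_naturality (tensSCMap P ε) hΦ' hΦ'' (n + 1) n
    hrel
  have nat' : hΦ'.δ (n + 1) n hrel ≫ (TF P n).map ε.τ₁ =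
      (TF P (n + 1)).map ε.τ₃ ≫ hΦ''.δ (n + 1) n hrel := nat
  have hex := hΦ'.homology_exact₁ (n + 1) n hrel
  have hex' : (ShortComplex.mk (hΦ'.δ (n + 1) n hrel) ((TF P n).map S'.f)
      (hΦ'.δ_comp (n + 1) n hrel)).Exact := hex
  rw [ShortComplex.comp_τ₁, Functor.map_comp]
  apply ModuleCat.hom_ext
  apply LinearMap.ext
  intro x
  have e1 : (TF P n).map ε'.τ₁ ≫ (TF P n).map S'.f = 0 := by
    rw [← Functor.map_comp, ε'.comm₁₂, Functor.map_comp, h2, comp_zero]
  have hx : ((TF P n).map S'.f).hom (((TF P n).map ε'.τ₁).hom x) = 0 :=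
    congrArg (fun t => t.hom x) e1
  obtain ⟨w, hw⟩ := (ShortComplex.ShortExact.moduleCat_exact_iff_function_exact _).1 hex' _ |>.1 hx
  have hw' : (hΦ'.δ (n + 1) n hrel).hom w = ((TF P n).map ε'.τ₁).hom x := hw
  show ((TF P n).map ε.τ₁).hom (((TF P n).map ε'.τ₁).hom x) = 0
  rw [← hw']
  have h := congrArg (fun t => t.hom w) nat'
  have h0 : (hΦ''.δ (n + 1) n hrel).hom (((TF P (n + 1)).map ε.τ₃).hom w) = 0 := by
    rw [h3]
    exact map_zero _
  exact h.trans h0

end Chase

end Groth.Agent.H35.TorU
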