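import Mathlib
import Groth.Agent.H35.TorU.BlowColim
import Groth.Agent.H35.TorU.ChaseLeft
import Groth.Agent.H9.TorFilteredColimits

/-!
# `Tor_i(A[I/a], M)` is killed by a power of `I` in high degrees (helper35, S8938)
-/

set_option autoImplicit false
universe u

open CategoryTheory CategoryTheory.Limits MonoidalCategory

namespace Groth.Agent.H35.TorU

open Groth.Agent.H18

section First

variable {A : Type u} [CommRing A]

/-- `Tor_n(N, M) ≅ H_n(P ⊗ N)` for a projective resolution `P` of the second variable `M` -/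
noncomputable def torFirstIso (N M : ModuleCat.{u} A) (P : ProjectiveResolution M) (n : ℕ) :
    ((Tor (ModuleCat.{u} A) n).obj N).obj M ≅ (TF P n).obj N :=
  P.isoLeftDerivedObj ((tensoringLeft (ModuleCat.{u} A)).obj N) n ≪≫
    (HomologicalComplex.homologyFunctor (ModuleCat.{u} A) (ComplexShape.down ℕ) n).mapIso
      ((NatIso.mapHomologicalComplex (BraidedCategory.tensorLeftIsoTensorRight N)
        (ComplexShape.down ℕ)).app P.complex)

lemma tor_first_smul_eq_zero (N M : ModuleCat.{u} A) (P : ProjectiveResolution M) (n : ℕ) (x : A)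
    (h : (TF P n).map (x • 𝟙 N) = 0) (y : ((Tor (ModuleCat.{u} A) n).obj N).obj M) :
    x • y = 0 := by
  have hinj : Function.Injective (torFirstIso N M P n).hom :=
    (ModuleCat.mono_iff_injective _).1 inferInstance
  apply hinj
  rw [map_zero]
  have h1 : (torFirstIso N M P n).hom (x • y) = x • (torFirstIso N M P n).hom y :=
    map_smul (torFirstIso N M P n).hom.hom x y
  rw [h1]
  rw [TF_map_smul, CategoryTheory.Functor.map_id] at h
  exact congrArg (fun t => t.hom ((torFirstIso N M P n).hom y)) h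

/-- dimension shift: from the quotient to the submodule -/
lemma TF_smul_id_X₁ {M : ModuleCat.{u} A} (P : ProjectiveResolution M)
    {S : ShortComplex (ModuleCat.{u} A)} (hS : S.ShortExact) [Module.Flat A S.X₂] (m : ℕ) (x : A)
    (h : (TF P (m + 2)).map (x • 𝟙 S.X₃) = 0) : (TF P (m + 1)).map (x • 𝟙 S.X₁) = 0 := by
  have key := chase_left P hS hS (m + 1) (𝟙 S) (x • 𝟙 S)
    ((isZero_TF_succ_of_flat P m S.X₂).eq_of_src _ _)
    (by rw [ShortComplex.smul_τ₃, ShortComplex.id_τ₃]; exact h)
  rw [Category.id_comp, ShortComplex.smul_τ₁, ShortComplex.id_τ₁] at key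
  exact key

/-- the sequence `0 → 𝔞 → A → A/𝔞 → 0` -/
noncomputable def idealSC (𝔞 : Ideal A) : ShortComplex (ModuleCat.{u} A) :=
  ShortComplex.mk (ModuleCat.ofHom (Submodule.subtype 𝔞)) (ModuleCat.ofHom (Submodule.mkQ 𝔞)) (by
    rw [← ModuleCat.ofHom_comp]
    have : (Submodule.mkQ 𝔞).comp (Submodule.subtype 𝔞) = 0 := by
      ext x
      exact Ideal.Quotient.eq_zero_iff_mem.2 x.2
    rw [this]
    rfl)

lemma idealSC_shortExact (𝔞 : Ideal A) : (idealSC 𝔞).ShortExact where
  exact := by
    rw [ShortComplex.moduleCat_exact_iff]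
    intro x₂ hx₂
    have h : Submodule.mkQ 𝔞 x₂ = 0 := hx₂
    rw [Submodule.mkQ_apply, Submodule.Quotient.mk_eq_zero] at h
    exact ⟨⟨x₂, h⟩, rfl⟩
  mono_f := by
    rw [ModuleCat.mono_iff_injective]
    exact Submodule.injective_subtype 𝔞
  epi_g := by
    rw [ModuleCat.epi_iff_surjective]
    exact Submodule.mkQ_surjective 𝔞

lemma TF_smul_id_ideal {M : ModuleCat.{u} A} (P : ProjectiveResolution M) (𝔞 : Ideal A) (m : ℕ)
    (x : A) (h : TL P (m + 2) (x • (LinearMap.id : (A ⧸ 𝔞) →ₗ[A] (A ⧸ 𝔞))) = 0) :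
    (TF P (m + 1)).map (x • 𝟙 (ModuleCat.of A ↥𝔞)) = 0 := by
  have : Module.Flat A (idealSC 𝔞).X₂ := inferInstanceAs (Module.Flat A A)
  exact TF_smul_id_X₁ P (idealSC_shortExact 𝔞) m x h

end First

section Blow

variable {A : Type u} [CommRing A] {I : Ideal A} {a : A}

/-- the comparison map from the direct limit of the `I^n` to `A[I/a]` -/
noncomputable def limToBlow (ha : a ∈ I) :
    Module.DirectLimit (fun j : ULift.{u} ℕ => ↥(I ^ j.down)) (fun i j h => powMap ha i j h)
      →ₗ[A] ↥(BlowUp.affineAlgebra A I a) :=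
  Module.DirectLimit.lift A (ULift.{u} ℕ) _ _ (fun j => lamMap j)
    (fun i j h x => lamMap_powMap ha i j h x)

lemma limToBlow_bijective (ha : a ∈ I) : Function.Bijective (limToBlow ha) := by
  have := powMap_directed ha
  constructor
  · rw [injective_iff_map_eq_zero]
    intro z hz
    obtain ⟨j, x, rfl⟩ := Module.DirectLimit.exists_of z
    unfold limToBlow at hz
    rw [Module.DirectLimit.lift_of] at hz
    have h1 : algebraMap A (Localization.Away a) (x : A) * wInv a ^ j.down = 0 :=
      congrArg Subtype.val hz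
    obtain ⟨k, hk⟩ := exists_pow_mul_eq_zero a h1
    have hjk : j ≤ ⟨j.down + k⟩ := Nat.le_add_right _ _
    rw [← Module.DirectLimit.of_f (hij := hjk)]
    have h2 : powMap ha j ⟨j.down + k⟩ hjk x = 0 := by
      apply Subtype.ext
      rw [powMap_coe]
      show a ^ (j.down + k - j.down) * (x : A) = 0
      rw [Nat.add_sub_cancel_left]
      exact hk
    rw [h2, map_zero]
  · intro b
    obtain ⟨n, x, hx, hb⟩ := exists_of_mem_affineAlgebra I a ha b.2
    refine ⟨Module.DirectLimit.of A (ULift.{u} ℕ) _ _ ⟨n⟩ ⟨x, hx⟩, ?_⟩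
    unfold limToBlow
    rw [Module.DirectLimit.lift_of]
    exact Subtype.ext hb.symm

/-- `I^c` kills `Tor_i(A[I/a], M)` as soon as it kills `T_{i+1}(A/I^q)` for all `q` -/
theorem blow_tor_smul_eq_zero (ha : a ∈ I) (M : ModuleCat.{u} A) (m : ℕ) (x : A)
    (hx : ∀ q, TL (projectiveResolution M) (m + 2)
      (x • (LinearMap.id : (A ⧸ I ^ q) →ₗ[A] (A ⧸ I ^ q))) = 0)
    (y : ((Tor (ModuleCat.{u} A) (m + 1)).obj
      (ModuleCat.of A ↥(BlowUp.affineAlgebra A I a))).obj M) : x • y = 0 := by
  have hdir := powMap_directed ha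
  let F : ModuleCat.{u} A ⥤ ModuleCat.{u} A := (Tor (ModuleCat.{u} A) (m + 1)).flip.obj M
  have hF : PreservesColimitsOfShape (ULift.{u} ℕ) F :=
    Groth.Agent.H9.preservesColimitsOfShape_tor_flip M (m + 1) (ULift.{u} ℕ)
  let D := ModuleCat.directLimitCocone (fun j : ULift.{u} ℕ => ↥(I ^ j.down))
    (fun i j h => powMap ha i j h)
  have hD : IsColimit D := ModuleCat.directLimitIsColimit _ _
  have hFD : IsColimit (F.mapCocone D) := isColimitOfPreserves F hD
  let e : D.pt ≅ ModuleCat.of A ↥(BlowUp.affineAlgebra A I a) :=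
    (LinearEquiv.ofBijective (limToBlow ha) (limToBlow_bijective ha)).toModuleIso
  -- pull `y` back to the colimit
  have hy : y = (F.map e.hom).hom ((F.map e.inv).hom y) := by
    have h1 : F.map e.inv ≫ F.map e.hom = 𝟙 _ := by
      rw [← Functor.map_comp, e.inv_hom_id, CategoryTheory.Functor.map_id]
    exact (congrArg (fun t => t.hom y) h1).symm
  obtain ⟨j, yj, hyj⟩ := Concrete.isColimit_exists_rep _ hFD ((F.map e.inv).hom y)
  have hyj' : (F.map (D.ι.app j)).hom yj = (F.map e.inv).hom y := hyj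
  have h0 : x • yj = 0 :=
    tor_first_smul_eq_zero (ModuleCat.of A ↥(I ^ j.down)) M (projectiveResolution M) (m + 1) x
      (TF_smul_id_ideal (projectiveResolution M) (I ^ j.down) m x (hx j.down)) yj
  rw [hy, ← hyj']
  have h2 : x • (F.map e.hom).hom ((F.map (D.ι.app j)).hom yj) =
      (F.map e.hom).hom ((F.map (D.ι.app j)).hom (x • yj)) := by
    rw [map_smul, map_smul]
  rw [h2, h0, map_zero, map_zero]

end Blow

end Groth.Agent.H35.TorU
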