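import Mathlib
import Groth.Agent.H35.TorU.Step

/-!
# Transfer from `T_n` to Mathlib's `Tor` (objectwise) (helper35, S1739)
-/

set_option autoImplicit false
universe u

open CategoryTheory CategoryTheory.Limits MonoidalCategory

namespace Groth.Agent.H35.TorU

variable {A : Type u} [CommRing A]

lemma smul_eq_zero_of_TL {M : ModuleCat.{u} A} (P : ProjectiveResolution M)
    {N : Type u} [AddCommGroup N] [Module A N] (n : ℕ) (a : A)
    (h : TL P n (a • (LinearMap.id : N →ₗ[A] N)) = 0)
    (y : (TF P n).obj (ModuleCat.of A N)) : a • y = 0 := by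
  rw [TL_smul, TL_id] at h
  have h2 : (a • 𝟙 ((TF P n).obj (ModuleCat.of A N))).hom y = 0 := congrArg (fun t => t.hom y) h
  exact h2

theorem tor_smul_eq_zero (M N : Type u) [AddCommGroup M] [Module A M] [AddCommGroup N]
    [Module A N] (n : ℕ) (a : A)
    (h : TL (projectiveResolution (ModuleCat.of A M)) n (a • (LinearMap.id : N →ₗ[A] N)) = 0)
    (x : ((Tor (ModuleCat.{u} A) n).obj (ModuleCat.of A M)).obj (ModuleCat.of A N)) :
    a • x = 0 := by
  obtain ⟨e⟩ := Groth.Agent.H18.tor_iso_homology_tensCx (ModuleCat.of A M)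
    (projectiveResolution (ModuleCat.of A M)) n (ModuleCat.of A N)
  have hinj : Function.Injective e.hom := (ModuleCat.mono_iff_injective e.hom).1 inferInstance
  apply hinj
  rw [map_zero]
  have h1 : e.hom (a • x) = a • e.hom x := map_smul e.hom.hom a x
  rw [h1]
  exact smul_eq_zero_of_TL (projectiveResolution (ModuleCat.of A M)) n a h _

end Groth.Agent.H35.TorU
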