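import Mathlib
import Groth.Agent.H35.TorU.Step
import Groth.Agent.H9.TorNat.Main

/-!
# Transfer of the vanishing of maps from `T_n` to Mathlib's `Tor` (helper35, S0361)
-/

set_option autoImplicit false
universe u

open CategoryTheory CategoryTheory.Limits MonoidalCategory

namespace Groth.Agent.H35.TorU

open Groth.Agent.H18

variable {R : Type u} [CommRing R]

/-- vanishing of `T_n(φ)` gives vanishing of `Tor_n(φ, M)` (first variable) -/
lemma torMap_app_eq_zero {N N' : ModuleCat.{u} R} (φ : N ⟶ N') (M : ModuleCat.{u} R)
    (P : ProjectiveResolution M) (n : ℕ) (h : (TF P n).map φ = 0) :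
    ((Tor (ModuleCat.{u} R) n).map φ).app M = 0 := by
  show (NatTrans.leftDerived ((tensoringLeft (ModuleCat.{u} R)).map φ) n).app M = 0
  rw [P.leftDerived_app_eq]
  have key : (HomologicalComplex.homologyFunctor (ModuleCat.{u} R) (ComplexShape.down ℕ) n).map
      ((NatTrans.mapHomologicalComplex ((tensoringLeft (ModuleCat.{u} R)).map φ)
        (ComplexShape.down ℕ)).app P.complex) = 0 := by
    have sq : (tensoringLeft (ModuleCat.{u} R)).map φ ≫
        (BraidedCategory.tensorLeftIsoTensorRight N').hom =
        (BraidedCategory.tensorLeftIsoTensorRight N).hom ≫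
          (tensoringRight (ModuleCat.{u} R)).map φ := by
      ext X : 2
      exact BraidedCategory.braiding_naturality_left φ X
    have sq2 : (NatTrans.mapHomologicalComplex ((tensoringLeft (ModuleCat.{u} R)).map φ)
          (ComplexShape.down ℕ)).app P.complex ≫
        (NatTrans.mapHomologicalComplex (BraidedCategory.tensorLeftIsoTensorRight N').hom
          (ComplexShape.down ℕ)).app P.complex =
        (NatTrans.mapHomologicalComplex (BraidedCategory.tensorLeftIsoTensorRight N).hom
          (ComplexShape.down ℕ)).app P.complex ≫ tensCxMap P φ := by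
      rw [← NatTrans.comp_app, ← NatTrans.mapHomologicalComplex_comp, sq,
        NatTrans.mapHomologicalComplex_comp, NatTrans.comp_app]
    have hiso : IsIso ((NatTrans.mapHomologicalComplex
        (BraidedCategory.tensorLeftIsoTensorRight N').hom (ComplexShape.down ℕ)).app P.complex) :=
      inferInstanceAs (IsIso ((NatIso.mapHomologicalComplex
        (BraidedCategory.tensorLeftIsoTensorRight N') (ComplexShape.down ℕ)).hom.app P.complex))
    have h3 := congrArg (fun t => (HomologicalComplex.homologyFunctor (ModuleCat.{u} R)
      (ComplexShape.down ℕ) n).map t) sq2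
    simp only [Functor.map_comp] at h3
    have h4 : (HomologicalComplex.homologyFunctor (ModuleCat.{u} R) (ComplexShape.down ℕ) n).map
        (tensCxMap P φ) = 0 := h
    rw [h4, comp_zero] at h3
    exact (cancel_mono _).1 (h3.trans zero_comp.symm)
  rw [key, zero_comp, comp_zero]

/-- vanishing of `T_n(φ)` gives vanishing of `Tor_n(M, φ)` -/
theorem tor_map_eq_zero (M : ModuleCat.{u} R) {N N' : ModuleCat.{u} R} (φ : N ⟶ N') (n : ℕ)
    (h : (TF (projectiveResolution M) n).map φ = 0) :
    ((Tor (ModuleCat.{u} R) n).obj M).map φ = 0 := by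
  have h1 := (Groth.Agent.H9.TorNat.bal (R := R) n).nat₂ M φ
  rw [torMap_app_eq_zero φ M _ n h, comp_zero] at h1
  exact (cancel_mono _).1 (h1.trans zero_comp.symm)

end Groth.Agent.H35.TorU
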